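import Cfsg.Agent.H546.IF.OddBase
import Cfsg.Agent.H269.CubeJ2

/-!
# S5719, `|A|` odd: `J₂` (helper546)

The outer involutions are conjugate to `pT`, which commutes with an element of order eight.
-/

set_option autoImplicit false

namespace Cfsg.Agent.H546.IFO.JTwo

open Equiv Cfsg.Agent.SporadicA.PermTab Cfsg.Agent.SporadicA.J2Data Cfsg.Agent.SporadicA.J2Hundred
open Cfsg.Agent.H269.CubeJ2Data Cfsg.Agent.H269.CubeTools Cfsg.Agent.H269.CubeJ2 Cfsg.Agent.H383.Cube
open Cfsg.Agent.H209.Fxy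

theorem chk8 : allB (fun i => Nat.beq (lk cTx (lk cTx (lk cTx (lk cTx (lk cTx (lk cTx (lk cTx (lk cTx i)))))))) i) 100
    = true := by decide +kernel

theorem chk4 : Nat.beq (lk cTx (lk cTx (lk cTx (lk cTx 1)))) 1 = false := by decide +kernel

theorem exists_eight : ∃ x ∈ CC pT, orderOf x = 8 := by
  obtain ⟨x, hx, hxi⟩ := jTx
  have hx' : x ∈ CC pT := hx.1
  have e1 : ∀ i : Fin 100, ((x (x (x (x i))) : Fin 100) : ℕ) = lk cTx (lk cTx (lk cTx (lk cTx i))) := by
    intro i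
    rw [hxi, hxi, hxi, hxi]
  have h8 : x ^ 8 = 1 := by
    ext i
    have h1 : (x ^ 8) i = x (x (x (x (x (x (x (x i))))))) := rfl
    rw [h1, e1, e1]
    exact Nat.eq_of_beq_eq_true ((allB_iff _ _).1 chk8 i i.2)
  have h4 : x ^ 4 ≠ 1 := by
    intro h4
    have h1 : (x ^ 4) 1 = x (x (x (x 1))) := rfl
    have h2 := congrArg (fun p : Perm (Fin 100) => ((p 1 : Fin 100) : ℕ)) h4
    simp only [h1, Perm.one_apply] at h2
    rw [e1] at h2
    have h3 := chk4
    change Nat.beq (lk cTx (lk cTx (lk cTx (lk cTx ((1 : Fin 100) : ℕ))))) 1 = false at h3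
    rw [h2] at h3
    exact absurd h3 (by decide)
  have : Fact (Nat.Prime 2) := ⟨Nat.prime_two⟩
  exact ⟨x, hx', orderOf_eq_prime_pow (p := 2) (n := 2) h4 h8⟩

theorem mem_G_of_sign {h : Perm (Fin 100)} (hh : h ∈ HH) (hs : Perm.sign h = 1) : h ∈ G := by
  rw [G_eq]
  exact ⟨hh, hs⟩

theorem out_G : OutP G fun σ => 2 ^ 3 ∣ Nat.card (fix σ) := by
  intro α ho hout
  obtain ⟨h, hh, ha⟩ := aut_G α
  have h1 : h ≠ 1 := by
    rintro rfl
    have : α = 1 := by
      apply MulEquiv.ext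
      intro g
      apply Subtype.ext
      rw [ha]
      simp
    rw [this, orderOf_one] at ho
    exact absurd ho (by norm_num)
  have h2 : h * h = 1 := by
    refine cent_triv fun g hg => ?_
    have h3 : α * α = 1 := by rw [← pow_two, ← ho]; exact pow_orderOf_eq_one _
    have h4 := congrArg (fun f : MulAut G => ((f ⟨g, hg⟩ : G) : Perm (Fin 100))) h3
    simp only [MulAut.mul_apply, ha, MulAut.one_apply] at h4
    calc g * (h * h) = (h * (h * g * h⁻¹) * h⁻¹) * (h * h) := by rw [h4]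
      _ = h * h * g := by group
  have hnG : h ∉ G := by
    intro hG
    refine hout ⟨h, hG⟩ (MulEquiv.ext fun x => Subtype.ext ?_)
    rw [ha]
    rfl
  obtain ⟨k, g, hg, e⟩ := inv_HH hh h2 h1
  have hk : typP k = pT := by
    match k with
    | 0 =>
      exfalso
      apply hnG
      rw [e]
      exact conj_mem_G hg mA
    | 1 =>
      exfalso
      apply hnG
      rw [e]
      exact conj_mem_G hg mD
    | (n + 2) => rfl
  rw [hk] at e
  obtain ⟨x, hx, hx8⟩ := exists_eight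
  obtain ⟨hxG, hxT⟩ := mem_CC.1 hx
  let y : G := ⟨g * x * g⁻¹, conj_mem_G hg hxG⟩
  have hy : orderOf y = 8 := by
    rw [← Subgroup.orderOf_coe]
    have h3 : ((y : G) : Perm (Fin 100)) = MulAut.conj g x := rfl
    rw [h3, ← hx8]
    exact MulEquiv.orderOf_eq (MulAut.conj g) x
  have hαy : α y = y := by
    apply Subtype.ext
    rw [ha]
    show h * (g * x * g⁻¹) * h⁻¹ = g * x * g⁻¹
    rw [e]
    calc g * pT * g⁻¹ * (g * x * g⁻¹) * (g * pT * g⁻¹)⁻¹ = g * (pT * x) * pT⁻¹ * g⁻¹ := by group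
      _ = g * (x * pT) * pT⁻¹ * g⁻¹ := by rw [hxT]
      _ = g * x * g⁻¹ := by group
  refine dvd_fix (B := Subgroup.zpowers y) ?_ ?_
  · rintro b ⟨n, rfl⟩
    show α (y ^ n) = y ^ n
    rw [map_zpow, hαy]
  · rw [Nat.card_zpowers, hy]
    norm_num

/-- **`J₂`, `|A|` odd.** -/
theorem killO_J2 {T : Type*} [Group T] [Finite T] [IsSimpleGroup T] (hn : ¬ IsMulCommutative T)
    (h : Cfsg.Spor.IsoJ2 T) : KillO T := by
  obtain ⟨e⟩ := h
  obtain ⟨f⟩ := Cfsg.Agent.J2.HundredGens.J2_iso Cfsg.Agent.S1619.result.2.2.2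
  let e' := e.trans f
  have : IsSimpleGroup G := (MulEquiv.isSimpleGroup_congr e').1 inferInstance
  have : Finite G := Finite.of_equiv _ e'.toEquiv
  obtain ⟨a, b, hab⟩ : ∃ a b : T, a * b ≠ b * a := by
    by_contra hcon
    push Not at hcon
    exact hn ⟨⟨hcon⟩⟩
  exact KillO.congr e'.symm (killO_cube ⟨e' a, e' b, fun h => hab (e'.injective (by rw [map_mul, map_mul, h]))⟩
    cube_G (k := 3) out_G (by rw [card_G]; norm_num))

end Cfsg.Agent.H546.IFO.JTwo
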