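import Cfsg.Agent.H546.IF.OddBase
import Cfsg.Agent.H546.SH.Outer
import Cfsg.Agent.H817.CubeHN

/-!
# S5719, `|A|` odd: `HN` (helper546)

The outer involutions are conjugate to `σ = conj (ψ h) α`, `h ∈ {x, z, d} × {1, τ}`; `σ` fixes `ψ k` if `h k' h⁻¹ = k`,
`k'` the twist of `k`. Seven words `k` generate a group with an orbit of length `2 ^ 7` on the 1408 points.
-/

set_option autoImplicit false

namespace Cfsg.Agent.H546.IFO.HN

open Subgroup Cfsg Equiv
open Cfsg.Agent.HN Cfsg.Agent.HN.Pres Cfsg.Agent.HN.P1408 Cfsg.Agent.HN.H0Basic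
open Cfsg.Agent.HN.HS100 (K)
open Cfsg.Agent.HN.XWords (V V_hw)
open Cfsg.Agent.H997.OutHN (twist twist_of_mem twist_of_not)
open Cfsg.Agent.H383.Cube Cfsg.Agent.H209.Fxy
open Cfsg.Agent.H546.SH (reps norm_form exists_outer' alpha_ψ)
open scoped Pointwise

/-! ### orbits -/

/-- the points `p w`, `w` a product of a part of the words of `L` -/
def pts (p : ℕ) (L : List (List ℕ)) : List ℕ :=
  L.foldr (fun g R => R ++ R.map (tr g)) [p]

theorem pts_cons (p : ℕ) (g : List ℕ) (L : List (List ℕ)) : pts p (g :: L) = pts p L ++ (pts p L).map (tr g) := rfl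

theorem length_pts (p : ℕ) (L : List (List ℕ)) : (pts p L).length = 2 ^ L.length := by
  induction L with
  | nil => rfl
  | cons g L ih => rw [pts_cons, List.length_append, List.length_map, ih, List.length_cons, pow_succ]; ring

/-- the group generated by the words -/
def gp (L : List (List ℕ)) : Subgroup H0 := closure {x | ∃ w ∈ L, x = hw w}

theorem mem_pts (p : Fin 1408) {P : Subgroup H0} (L : List (List ℕ)) (hL : ∀ w ∈ L, okw w = true ∧ hw w ∈ P) :
    ∀ q ∈ pts p L, ∃ x ∈ P, (((P1408.ψ x)⁻¹ p : Fin 1408) : ℕ) = q := by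
  induction L with
  | nil =>
    intro q hq
    rw [pts, List.foldr_nil, List.mem_singleton] at hq
    exact ⟨1, P.one_mem, by rw [map_one, inv_one, hq]; rfl⟩
  | cons g L ih =>
    have ih' := ih fun w hw => hL w (List.mem_cons_of_mem _ hw)
    intro q hq
    rw [pts_cons, List.mem_append, List.mem_map] at hq
    rcases hq with hq | ⟨r, hr, rfl⟩
    · exact ih' q hq
    · obtain ⟨x, hx, hxr⟩ := ih' r hr
      obtain ⟨hg1, hg2⟩ := hL g List.mem_cons_self
      refine ⟨x * hw g, P.mul_mem hx hg2, ?_⟩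
      rw [map_mul, mul_inv_rev, Perm.mul_apply, ψ_hw_inv_apply hg1, hxr]

/-- **The order of the group generated by the words.** -/
theorem dvd_card {L : List (List ℕ)} {p : Fin 1408} (hok : ∀ w ∈ L, okw w = true) (hnd : (pts p L).Nodup)
    (hcl : ∀ g ∈ L, ∀ q ∈ pts p L, tr g q ∈ pts p L) : 2 ^ L.length ∣ Nat.card (gp L) := by
  classical
  set S : Subgroup (Perm (Fin 1408)) := (gp L).map P1408.ψ with hS
  have hcard : Nat.card S = Nat.card (gp L) :=
    (Nat.card_congr ((gp L).equivMapOfInjective _ (P1408.ψ_injective finite_H0 card_H0_le)).toEquiv).symm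
  have hL : ∀ w ∈ L, okw w = true ∧ hw w ∈ gp L := fun w hw => ⟨hok w hw, subset_closure ⟨w, hw, rfl⟩⟩
  set O : Finset (Fin 1408) := Finset.univ.filter fun i : Fin 1408 => (i : ℕ) ∈ pts p L with hO
  have memO : ∀ i : Fin 1408, i ∈ O ↔ (i : ℕ) ∈ pts p L := fun i => by simp [hO]
  -- the stabiliser of `O`
  have hgen : ∀ w ∈ L, P1408.ψ (hw w) ∈ MulAction.stabilizer (Perm (Fin 1408)) O := by
    intro w hw
    rw [← inv_mem_iff, MulAction.mem_stabilizer_iff]
    have h1 : (P1408.ψ (P1408.hw w))⁻¹ • O ⊆ O := by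
      intro i hi
      obtain ⟨j, hj, rfl⟩ := Finset.mem_smul_finset.1 hi
      rw [memO] at hj ⊢
      rw [Perm.smul_def, ψ_hw_inv_apply (hok w hw)]
      exact hcl w hw _ hj
    exact Finset.eq_of_subset_of_card_le h1 (by rw [Finset.card_smul_finset])
  have hle : S ≤ MulAction.stabilizer (Perm (Fin 1408)) O := by
    rw [hS, Subgroup.map_le_iff_le_comap, gp, closure_le]
    rintro _ ⟨w, hw, rfl⟩
    exact hgen w hw
  have hpO : p ∈ O := by
    rw [memO]
    have h0 : ∀ L' : List (List ℕ), (p : ℕ) ∈ pts p L' := by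
      intro L'
      induction L' with
      | nil => exact List.mem_singleton.2 rfl
      | cons g L' ih => rw [pts_cons]; exact List.mem_append_left _ ih
    exact h0 L
  have horb : MulAction.orbit S p = (O : Set (Fin 1408)) := by
    ext i
    constructor
    · rintro ⟨s, rfl⟩
      have h1 := hle s.2
      rw [MulAction.mem_stabilizer_iff] at h1
      have h2 : (s : Perm (Fin 1408)) • p ∈ (s : Perm (Fin 1408)) • O := Finset.smul_mem_smul_finset hpO
      rw [h1] at h2
      exact h2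
    · intro hi
      obtain ⟨x, hx, hxi⟩ := mem_pts p L hL _ ((memO i).1 hi)
      exact ⟨⟨(P1408.ψ x)⁻¹, S.inv_mem ⟨x, hx, rfl⟩⟩, Fin.ext hxi⟩
  have hOc : O.card = 2 ^ L.length := by
    rw [← length_pts (p : ℕ) L, ← List.toFinset_card_of_nodup hnd]
    refine Finset.card_bij (fun i _ => (i : ℕ)) ?_ ?_ ?_
    · intro i hi
      rw [List.mem_toFinset]
      exact (memO i).1 hi
    · intro i _ j _ h
      exact Fin.ext h
    · intro q hq
      rw [List.mem_toFinset] at hq
      obtain ⟨x, -, hxq⟩ := mem_pts p L hL q hq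
      exact ⟨(P1408.ψ x)⁻¹ p, (memO _).2 (by rw [hxq]; exact hq), hxq⟩
  have h1 : (MulAction.stabilizer S p).index = 2 ^ L.length := by
    rw [MulAction.index_stabilizer, horb, Set.ncard_coe_finset, hOc]
  rw [← hcard, ← h1]
  exact Subgroup.index_dvd_card _

/-! ### the fixed words -/

/-- the twisted word -/
def tww (w : List ℕ) : List ℕ := bif par w then w ++ [0, 0] else w

theorem hw_tww {w : List ℕ} (hw' : okw w = true) : hw (tww w) = twist (hw w) := by
  unfold tww
  cases h : par w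
  · rw [cond_false, twist_of_mem (mem_K_of_par hw' h)]
  · rw [cond_true, twist_of_not (not_mem_K_of_par hw' h), hw_append]
    congr 1

/-- the check of a representative -/
def chk (ρ : List ℕ) (p : ℕ) (L : List (List ℕ)) : Bool :=
  Nat.blt p 1408 && (okw ρ && (L.all (fun w => okw w && eqw (ρ ++ (tww w ++ iw ρ)) w) &&
    (decide (pts p L).Nodup && L.all fun g => (pts p L).all fun q => (pts p L).any fun r => Nat.beq r (tr g q))))

theorem dvd_rep {α : MulAut Cfsg.Spor.HN} (hx : α Pres.hx = Pres.hx) (hy : α Pres.hy = Pres.hy)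
    (hz : α Pres.hz = Pres.hz * Pres.hx ^ 2) {ρ : List ℕ} {p : ℕ} {L : List (List ℕ)} (h : chk ρ p L = true) :
    2 ^ L.length ∣ Nat.card (fix (MulAut.conj (V ρ) * α)) := by
  have hfin := KFacts.HN.finite_HN
  unfold chk at h
  simp only [Bool.and_eq_true, List.all_eq_true, List.any_eq_true, decide_eq_true_eq] at h
  obtain ⟨hp, hρ, hw', hnd, hcl⟩ := h
  have hp' : p < 1408 := by
    have := Nat.le_of_ble_eq_true hp
    omega
  have h1 : 2 ^ L.length ∣ Nat.card (gp L) := by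
    refine dvd_card (p := ⟨p, hp'⟩) (fun w hwL => (hw' w hwL).1) hnd ?_
    intro g hg q hq
    obtain ⟨r, hr, e⟩ := hcl g hg q hq
    rw [← Nat.eq_of_beq_eq_true e]
    exact hr
  have h2 : gp L ≤ (fix (MulAut.conj (V ρ) * α)).comap NormalH.ψ := by
    rw [gp, closure_le]
    rintro _ ⟨w, hwL, rfl⟩
    obtain ⟨hwo, he⟩ := hw' w hwL
    change (MulAut.conj (V ρ) * α) (NormalH.ψ (hw w)) = NormalH.ψ (hw w)
    rw [MulAut.mul_apply, alpha_ψ hx hy hz, MulAut.conj_apply, ← V_hw hρ, ← hw_tww hwo, ← map_mul, ← map_inv, ← map_mul,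
      ← hw_iw, ← hw_append, ← hw_append, List.append_assoc, hw_eq he]
  have h3 : Nat.card (gp L) = Nat.card ((gp L).map NormalH.ψ) :=
    Nat.card_congr ((gp L).equivMapOfInjective _ KFacts.HN.emb.inj).toEquiv
  refine h1.trans ?_
  rw [h3]
  exact Subgroup.card_dvd_of_le (Subgroup.map_le_iff_le_comap.2 h2)

/-- words commuting with the representatives `x`, `z`, `d` -/
def Lx : List (List ℕ) := [[2, 2, 0, 3, 0, 3, 0, 2, 2, 2, 2, 0, 3, 0, 3, 0, 2, 2], [2, 4, 3, 4, 2],
  [2, 4, 3, 4, 2, 2, 4, 3, 4, 2], [2, 0, 2, 4, 3, 0, 3], [4], [0], [0, 0]]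
def Lz : List (List ℕ) := [[0, 2, 0, 2, 0, 2, 0, 2], [0, 2, 0, 2, 0, 2, 0, 2, 0, 3, 0, 3, 0, 3, 0, 3], [2, 4, 3, 4, 2],
  [2, 4, 3, 4, 2, 2, 4, 3, 4, 2], [2, 0, 2, 4, 3, 0, 3], [0, 4], [0, 0]]
def Ld : List (List ℕ) := [[0, 4, 3, 0, 2], [2, 4, 3, 3, 0, 2, 4, 2, 4, 3, 3, 4, 2, 2, 0, 3, 4],
  [0, 3, 4, 2, 0, 2, 0, 3, 0, 4, 2, 4, 3, 4, 3, 3, 0, 2, 0, 4, 2, 0, 3], [0, 3, 0, 4, 2, 4], [3, 4, 2],
  [4, 2, 4, 3, 0, 4, 3, 4, 2, 2, 4, 2, 4, 3, 3, 1, 2, 2], [0, 0]]

set_option maxRecDepth 100000 in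
theorem kx : chk [0] 16 Lx = true := by decide +kernel
set_option maxRecDepth 100000 in
theorem kx' : chk [0, 0, 0] 16 Lx = true := by decide +kernel
set_option maxRecDepth 100000 in
theorem kz : chk [4] 16 Lz = true := by decide +kernel
set_option maxRecDepth 100000 in
theorem kz' : chk [4, 0, 0] 16 Lz = true := by decide +kernel
set_option maxRecDepth 100000 in
theorem kd : chk [1, 3, 1, 2, 1, 4, 3, 4, 2, 4] 20 Ld = true := by decide +kernel
set_option maxRecDepth 100000 in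
theorem kd' : chk [1, 3, 1, 2, 1, 4, 3, 4, 2, 4, 0, 0] 20 Ld = true := by decide +kernel

theorem card_fix_conj {T : Type*} [Group T] (a b : MulAut T) : Nat.card (fix (b * a * b⁻¹)) = Nat.card (fix a) := by
  refine Nat.card_congr (Equiv.subtypeEquiv (b⁻¹ : MulAut T).toEquiv fun x => ?_)
  change (b * a * b⁻¹) x = x ↔ a (b⁻¹ x) = b⁻¹ x
  rw [MulAut.mul_apply, MulAut.mul_apply]
  constructor
  · intro h
    have h1 := congrArg (b⁻¹ : MulAut T) h
    rwa [← MulAut.mul_apply, inv_mul_cancel, MulAut.one_apply] at h1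
  · intro h
    rw [h, ← MulAut.mul_apply, mul_inv_cancel, MulAut.one_apply]

/-- **The centralisers of the outer involutions of `HN`.** -/
theorem out_HN : OutP Cfsg.Spor.HN fun σ => 2 ^ 7 ∣ Nat.card (fix σ) := by
  intro a ha hout
  obtain ⟨α, hα, hx, hy, hz, ht⟩ := exists_outer'
  have haa : a * a = 1 := by rw [← pow_two, ← ha, pow_orderOf_eq_one]
  obtain ⟨b, ρ, hρ, hb⟩ := norm_form hα hx hy hz ht haa hout
  rw [← card_fix_conj a b, hb]
  simp only [reps, List.mem_cons, List.not_mem_nil, or_false] at hρ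
  rcases hρ with rfl | rfl | rfl | rfl | rfl | rfl
  · exact dvd_rep hx hy hz kx
  · exact dvd_rep hx hy hz kx'
  · exact dvd_rep hx hy hz kz
  · exact dvd_rep hx hy hz kz'
  · exact dvd_rep hx hy hz kd
  · exact dvd_rep hx hy hz kd'

/-- **`HN`, `|A|` odd.** -/
theorem killO_HN {T : Type*} [Group T] [Finite T] [IsSimpleGroup T] (hn : ¬ IsMulCommutative T)
    (h : Cfsg.Spor.IsoHN T) : KillO T := by
  obtain ⟨e⟩ := h
  have hc : Nat.card Cfsg.Spor.HN = 273030912000000 := Cfsg.Agent.HN.Index.card_HN Cfsg.Agent.HN.DistinctC.hdis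
  have : IsSimpleGroup Cfsg.Spor.HN := (MulEquiv.isSimpleGroup_congr e).1 inferInstance
  have : Finite Cfsg.Spor.HN := Finite.of_equiv _ e.toEquiv
  obtain ⟨a, b, hab⟩ : ∃ a b : T, a * b ≠ b * a := by
    by_contra hcon
    push Not at hcon
    exact hn ⟨⟨hcon⟩⟩
  exact KillO.congr e.symm (killO_cube ⟨e a, e b, fun h => hab (e.injective (by rw [map_mul, map_mul, h]))⟩
    Cfsg.Agent.H817.CubeHN.cubeBound_HN (k := 7) out_HN (by rw [hc]; norm_num))

end Cfsg.Agent.H546.IFO.HN
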