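import Cfsg.Agent.H546.IF.OddBase
import Cfsg.Agent.H305.SprFi24

/-!
# S5719, `|A|` odd: `Fi₂₄'` (helper546)

The outer involutions are the transpositions and the products of three commuting transpositions; the orders of the
centralisers are known (`H305.SprFi24.ct_one`, `ct_three`), `2 ^ 17` divides both.
-/

set_option autoImplicit false

namespace Cfsg.Agent.H546.IFO.FiTF

open Subgroup Cfsg Cfsg.Agent.R08 Cfsg.Agent.R08.FiTwentyFour
open Cfsg.Agent.H209.Fxy Cfsg.Agent.H383.Cube Cfsg.Agent.H305.SprFi24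
open Cfsg.Agent.H833.Out24 (Tri3 outer_cases)
open Cfsg.Spor (Fi24)

theorem out_Fi24 : OutP Spor.Fi24' fun σ => 2 ^ 17 ∣ Nat.card (fix σ) := by
  intro σ ho hout
  have hfin : Finite Fi24 := finite_Fi24
  obtain ⟨g, hg⟩ := KFacts.FiTF.exists_conj σ
  have hgo := order_eq hg Nat.prime_two ho
  have hgg : g * g = 1 := by rw [← pow_two, ← hgo, pow_orderOf_eq_one]
  have hcard : Nat.card (fix σ) = ct g := card_fix hg
  rw [hcard]
  have hK : g ∉ commutator Fi24 := by
    intro hK
    refine hout ⟨g, hK⟩ (MulEquiv.ext fun x => Subtype.ext ?_)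
    rw [hg]
    rfl
  rcases outer_cases hK hgg with h | ⟨a, b, c, h, rfl⟩
  · rw [ct_one h]
    norm_num
  · refine Dvd.dvd.trans ?_ (Subgroup.card_dvd_of_le (?_ : commutator Fi24 ⊓ centralizer ({a} : Set Fi24) ⊓
      centralizer ({b} : Set Fi24) ⊓ centralizer ({c} : Set Fi24) ≤ _))
    · rw [ct_three h]
      norm_num
    · rintro x ⟨⟨⟨h0, hx1⟩, hx2⟩, hx3⟩
      refine ⟨h0, ?_⟩
      replace hx1 := mem_centralizer_singleton_iff.1 hx1
      replace hx2 := mem_centralizer_singleton_iff.1 hx2
      replace hx3 := mem_centralizer_singleton_iff.1 hx3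
      refine mem_centralizer_singleton_iff.2 ?_
      calc x * (a * b * c) = (x * a) * b * c := by group
        _ = a * (x * b) * c := by rw [hx1]; group
        _ = a * b * (x * c) := by rw [hx2]; group
        _ = a * b * c * x := by rw [hx3]; group

/-- **`Fi₂₄'`, `|A|` odd, the model.** -/
theorem killO_model : KillO Spor.Fi24' := by
  have hs : IsSimpleGroup Spor.Fi24' := simpleT
  have hfin : Finite Fi24 := finite_Fi24
  refine killO_three ?_ (k := 14) (fun σ h2 hout => (pow_dvd_pow 2 (by norm_num)).trans (out_Fi24 σ h2 hout)) ?_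
  · by_contra hcon
    push Not at hcon
    have h1 : IsMulCommutative Spor.Fi24' := ⟨⟨hcon⟩⟩
    let _ : CommGroup Spor.Fi24' := { (inferInstance : Group Spor.Fi24') with mul_comm := hcon }
    have h2 : (Nat.card Spor.Fi24').Prime := IsSimpleGroup.prime_card
    rw [cardT] at h2
    exact absurd h2 (by norm_num)
  · rw [cardT]
    norm_num

/-- **`Fi₂₄'`, `|A|` odd.** -/
theorem killO_Fi24 {T : Type*} [Group T] (h : Spor.IsoFi24' T) : KillO T := by
  obtain ⟨e⟩ := h
  exact KillO.congr e.symm killO_model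

end Cfsg.Agent.H546.IFO.FiTF
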