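import Cfsg.Agent.H546.IF.OddBase
import Cfsg.Agent.H269.CubeMat

/-!
# S5719, `|A|` odd: `M₁₂`, `M₂₂` (helper546)
-/

set_option autoImplicit false

namespace Cfsg.Agent.H546.IFO.Mat

open Cfsg Equiv
open Cfsg.Agent.H209.Fxy
open Cfsg.Agent.H269.CubeMat
open Cfsg.Agent.H866.InvolType
open Cfsg.Agent.H383.Cube
open scoped Pointwise

/-- the 2-part of the centralizer in a stabilizer -/
theorem dvd_fix_of {β : Type*} [MulAction (Perm GolayPt) β] (b : β) {T : Subgroup (Perm GolayPt)}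
    (hT : T = M24 ⊓ MulAction.stabilizer (Perm GolayPt) b) (h : Perm GolayPt) (S : Set β) (hS : S.Finite)
    (hm : ∀ c ∈ M24, c * h = h * c → c • b ∈ S) (k j : ℕ) (hSm : S.ncard < 2 ^ (j + 1))
    (hN : 2 ^ (k + j) ∣ Nat.card (CM h)) (σ : MulAut T)
    (hσ : ∀ x : T, ((σ x : T) : Perm GolayPt) = h * x * h⁻¹) : 2 ^ k ∣ Nat.card (fix σ) := by
  have : Fact (Nat.Prime 2) := ⟨Nat.prime_two⟩
  obtain ⟨K, hK⟩ := Sylow.exists_subgroup_card_pow_prime 2 hN
  let K' : Subgroup (Perm GolayPt) := K.map (CM h).subtype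
  have hK'le : K' ≤ CM h := Subgroup.map_subtype_le K
  have hK' : Nat.card K' = 2 ^ (k + j) := by
    rw [← hK]
    exact (Nat.card_congr (K.equivMapOfInjective _ (CM h).subtype_injective).toEquiv).symm
  let B0 : Subgroup K' := MulAction.stabilizer K' b
  have hidx : B0.index ≤ S.ncard := by
    rw [MulAction.index_stabilizer]
    refine Set.ncard_le_ncard ?_ hS
    rintro _ ⟨c, rfl⟩
    have h1 := mem_CM.1 (hK'le c.2)
    exact hm c h1.1 h1.2
  have hmul := B0.card_mul_index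
  rw [hK'] at hmul
  obtain ⟨i, -, hi⟩ := (Nat.dvd_prime_pow Nat.prime_two).1 (Dvd.intro _ hmul)
  obtain ⟨l, -, hl⟩ := (Nat.dvd_prime_pow Nat.prime_two).1 (Dvd.intro_left _ hmul)
  rw [hi, hl, ← pow_add] at hmul
  have h1 : i + l = k + j := Nat.pow_right_injective (le_refl 2) hmul
  have h2 : l < j + 1 := by
    rw [hl] at hidx
    exact (Nat.pow_lt_pow_iff_right (by norm_num)).1 (lt_of_le_of_lt hidx hSm)
  have h3 : 2 ^ k ∣ Nat.card B0 := by
    rw [hi]
    exact pow_dvd_pow 2 (by omega)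
  let B : Subgroup (Perm GolayPt) := B0.map K'.subtype
  have hBT : B ≤ T := by
    rintro _ ⟨c, hc, rfl⟩
    rw [hT]
    exact Subgroup.mem_inf.2 ⟨(mem_CM.1 (hK'le c.2)).1, hc⟩
  have hB : Nat.card (B.subgroupOf T) = Nat.card B0 := by
    rw [Nat.card_congr (Subgroup.subgroupOfEquivOfLe hBT).toEquiv]
    exact (Nat.card_congr (B0.equivMapOfInjective _ K'.subtype_injective).toEquiv).symm
  refine dvd_fix (B := B.subgroupOf T) ?_ (by rw [hB]; exact h3)
  rintro ⟨x, hxT⟩ hx
  obtain ⟨c, hc, rfl⟩ := Subgroup.mem_subgroupOf.1 hx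
  apply Subtype.ext
  rw [hσ]
  have h4 := (mem_CM.1 (hK'le c.2)).2
  show h * (c : Perm GolayPt) * h⁻¹ = c
  rw [← h4, mul_inv_cancel_right]

/-! ### M22 -/

theorem out_M22 : OutP Spor.M22 fun σ => 2 ^ 3 ∣ Nat.card (fix σ) := by
  intro α ho hout
  obtain ⟨h, hD, hh⟩ := Cfsg.Agent.J4Type.Aut22.exists_conj α
  have hα2 : α * α = 1 := by rw [← pow_two, ← ho]; exact pow_orderOf_eq_one _
  have h1 : h * h = 1 := by
    refine Cfsg.Agent.J4Type.Aut22.eq_one_of_centralizes (Subgroup.mul_mem _ hD hD) ?_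
    intro m
    have h2 := congrArg (fun f : MulAut Spor.M22 => ((f m : Spor.M22) : Perm GolayPt)) hα2
    have h3 : ((α (α m) : Spor.M22) : Perm GolayPt) = m := h2
    rw [hh, hh] at h3
    rw [mul_inv_rev]
    calc h * h * (m : Perm GolayPt) * (h⁻¹ * h⁻¹) = h * (h * m * h⁻¹) * h⁻¹ := by group
      _ = (m : Perm GolayPt) := h3
  have h2 : h ≠ 1 := by
    rintro rfl
    have : α = 1 := by
      apply MulEquiv.ext
      intro m
      apply Subtype.ext
      rw [hh]
      simp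
    rw [this, orderOf_one] at ho
    exact absurd ho (by norm_num)
  obtain ⟨hM, hf⟩ := (Cfsg.Agent.J4Type.Aut22.mem_D22_iff h).1 hD
  rcases hf with ⟨f1, f2⟩ | ⟨f1, f2⟩
  · -- inner
    exfalso
    have hm : h ∈ Spor.M22 := by
      rw [M22_eq]
      exact Subgroup.mem_inf.2 ⟨hM, Prod.ext f1 f2⟩
    refine hout ⟨h, hm⟩ (MulEquiv.ext fun x => Subtype.ext ?_)
    rw [hh]
    rfl
  · refine dvd_fix_of ((none, some 0) : GolayPt × GolayPt) M22_eq h
      (Set.range fun p : GolayPt => (p, h • p)) (Set.toFinite _) ?_ 3 4 ?_ ?_ α hh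
    · intro c _ hc
      refine ⟨c • none, ?_⟩
      show (c • (none : GolayPt), h • c • (none : GolayPt)) = (c • (none : GolayPt), c • (some 0 : GolayPt))
      have h3 : h • (none : GolayPt) = some 0 := f1
      rw [smul_smul, ← hc, mul_smul, h3]
    · have h3 := Set.ncard_image_le (s := (Set.univ : Set GolayPt)) (f := fun p : GolayPt => (p, h • p))
        (Set.toFinite _)
      rw [Set.image_univ, Set.ncard_univ] at h3
      refine lt_of_le_of_lt h3 ?_
      rw [Nat.card_eq_fintype_card]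
      decide
    · rcases card_cent hM h1 h2 with ⟨f, hc, -⟩ | ⟨f, hc, -⟩ <;> rw [hc] <;> norm_num

/-! ### M12 -/

theorem out_M12 : OutP Spor.M12 fun σ => 2 ^ 3 ∣ Nat.card (fix σ) := by
  obtain ⟨-, hno, g, hg, hgd, hgM⟩ := Cfsg.Agent.S5620.result
  have hgd' : g • (Finset.univ \ Spor.squareDodecad) = Spor.squareDodecad := by
    rw [smul_sdiff_univ, hgd, univ_sdiff_sdiff]
  have hnorm : ∀ x ∈ Spor.M12, g * x * g⁻¹ ∈ Spor.M12 := by
    intro x hx
    obtain ⟨h1, h2⟩ := Subgroup.mem_inf.1 hx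
    refine Subgroup.mem_inf.2 ⟨M24.mul_mem (M24.mul_mem hg h1) (M24.inv_mem hg), ?_⟩
    rw [MulAction.mem_stabilizer_iff] at h2 ⊢
    rw [mul_smul, mul_smul]
    conv_lhs => rw [← hgd']
    rw [inv_smul_smul, smul_sdiff_univ, h2, hgd']
  have hnorm' : ∀ x ∈ Spor.M12, g⁻¹ * x * g ∈ Spor.M12 := by
    intro x hx
    obtain ⟨h1, h2⟩ := Subgroup.mem_inf.1 hx
    refine Subgroup.mem_inf.2 ⟨M24.mul_mem (M24.mul_mem (M24.inv_mem hg) h1) hg, ?_⟩
    rw [MulAction.mem_stabilizer_iff] at h2 ⊢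
    rw [mul_smul, mul_smul, hgd, smul_sdiff_univ, h2, ← hgd, inv_smul_smul]
  let β : MulAut Spor.M12 :=
    { toFun := fun x => ⟨g * x * g⁻¹, hnorm x x.2⟩
      invFun := fun x => ⟨g⁻¹ * x * g, hnorm' x x.2⟩
      left_inv := fun x => Subtype.ext (by show g⁻¹ * (g * x * g⁻¹) * g = x; group)
      right_inv := fun x => Subtype.ext (by show g * (g⁻¹ * x * g) * g⁻¹ = x; group)
      map_mul' := fun x y => Subtype.ext (by
        show g * (x * y) * g⁻¹ = g * x * g⁻¹ * (g * y * g⁻¹); group) }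
  have hβ : ∀ x : Spor.M12, β ≠ MulAut.conj x := by
    intro k hk
    apply hno
    refine ⟨k, k.2, ?_⟩
    rw [← hgM]
    ext y
    have key : ∀ x ∈ Spor.M11, (k : Perm GolayPt) * x * (k : Perm GolayPt)⁻¹ = g * x * g⁻¹ := by
      intro x hx
      have h1 := congrArg (fun f : MulAut Spor.M12 => ((f ⟨x, M11_le hx⟩ : Spor.M12) : Perm GolayPt)) hk
      exact h1.symm
    constructor
    · rintro ⟨x, hx, rfl⟩
      exact ⟨x, hx, (key x hx).symm⟩
    · rintro ⟨x, hx, rfl⟩
      exact ⟨x, hx, key x hx⟩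
  intro α ho hout
  have hα2 : α * α = 1 := by rw [← pow_two, ← ho]; exact pow_orderOf_eq_one _
  have hform : ∃ h : Perm GolayPt, h ∈ M24 ∧ (∀ x : Spor.M12, ((α x : Spor.M12) : Perm GolayPt) = h * x * h⁻¹) ∧
      h • Spor.squareDodecad = Finset.univ \ Spor.squareDodecad := by
    rcases out_two Cfsg.Agent.S2061.result β hβ α with ⟨x, rfl⟩ | ⟨x, rfl⟩
    · exact absurd rfl (hout x)
    · refine ⟨x * g, M24.mul_mem (Subgroup.mem_inf.1 x.2).1 hg, fun y => ?_, ?_⟩
      · show (x : Perm GolayPt) * (g * y * g⁻¹) * (x : Perm GolayPt)⁻¹ = _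
        group
      · rw [mul_smul, hgd, smul_sdiff_univ]
        have h3 : (x : Perm GolayPt) • Spor.squareDodecad = Spor.squareDodecad := (Subgroup.mem_inf.1 x.2).2
        rw [h3]
  obtain ⟨h, hM, hh, hd⟩ := hform
  have h1 : h * h = 1 := by
    have hsq : h * h ∈ Spor.M12 := by
      refine Subgroup.mem_inf.2 ⟨M24.mul_mem hM hM, ?_⟩
      rw [MulAction.mem_stabilizer_iff, mul_smul, hd, smul_sdiff_univ, hd, univ_sdiff_sdiff]
    have hcen : (⟨h * h, hsq⟩ : Spor.M12) ∈ Subgroup.center Spor.M12 := by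
      rw [Subgroup.mem_center_iff]
      intro m
      apply Subtype.ext
      have h2 := congrArg (fun f : MulAut Spor.M12 => ((f m : Spor.M12) : Perm GolayPt)) hα2
      have h3 : ((α (α m) : Spor.M12) : Perm GolayPt) = m := h2
      rw [hh, hh] at h3
      show (m : Perm GolayPt) * (h * h) = h * h * m
      calc (m : Perm GolayPt) * (h * h) = (h * (h * m * h⁻¹) * h⁻¹) * (h * h) := by rw [h3]
        _ = h * h * m := by group
    rw [Cfsg.Agent.Omega.TwoF.RowM12.center_eq, Subgroup.mem_bot] at hcen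
    exact congrArg Subtype.val hcen
  have h2 : h ≠ 1 := by
    rintro rfl
    have : α = 1 := by
      apply MulEquiv.ext
      intro m
      apply Subtype.ext
      rw [hh]
      simp
    rw [this, orderOf_one] at ho
    exact absurd ho (by norm_num)
  have hdm := squareDodecad_mem
  rcases card_cent hM h1 h2 with ⟨f, hc, -⟩ | ⟨f, hc, k, hk, e⟩
  · exfalso
    have h3 : 0 < fx h := by rw [f]; norm_num
    obtain ⟨p, hp⟩ := Finset.card_pos.1 h3
    have hp' : h • p = p := (Finset.mem_filter.1 hp).2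
    have h4 : p ∈ h • Spor.squareDodecad ↔ p ∈ Spor.squareDodecad := by
      constructor
      · intro h5
        rw [← hp', Finset.smul_mem_smul_finset_iff] at h5
        exact h5
      · intro h5
        have h6 := Finset.smul_mem_smul_finset (a := h) h5
        rwa [hp'] at h6
    rw [hd, Finset.mem_sdiff] at h4
    simp at h4
  · refine dvd_fix_of Spor.squareDodecad rfl h {o | o ∈ dodecads ∧ h • o = Finset.univ \ o} (Set.toFinite _) ?_
      3 6 ?_ (by rw [hc]; norm_num) α hh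
    · intro c hcM hc
      refine ⟨smul_mem_dod c hcM _ hdm, ?_⟩
      rw [smul_smul, ← hc, mul_smul, hd, smul_sdiff_univ]
    · rw [ncard_transport_compl hk e, ncard_dod_t2_compl]
      norm_num

/-! ### the rows -/

theorem hna_of {T : Type*} [Group T] [Finite T] (hn : ¬ IsMulCommutative T) : ∃ a b : T, a * b ≠ b * a := by
  by_contra hcon
  push Not at hcon
  exact hn ⟨⟨hcon⟩⟩

/-- **`M₁₂`, `|A|` odd.** -/
theorem killO_M12 {T : Type*} [Group T] [Finite T] [IsSimpleGroup T] (hn : ¬ IsMulCommutative T)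
    (h : Spor.IsoM12 T) : KillO T := by
  obtain ⟨e⟩ := h
  have hc : Nat.card Spor.M12 = 95040 := Cfsg.Agent.Omega.TwoF.RowM12.card_M12
  have : IsSimpleGroup Spor.M12 := (MulEquiv.isSimpleGroup_congr e).1 inferInstance
  have : Finite Spor.M12 := Finite.of_equiv _ e.toEquiv
  obtain ⟨a, b, hab⟩ := hna_of hn
  exact KillO.congr e.symm (killO_cube ⟨e a, e b, fun h => hab (e.injective (by rw [map_mul, map_mul, h]))⟩
    cube_M12' (k := 3) out_M12 (by rw [hc]; norm_num))

/-- **`M₂₂`, `|A|` odd.** -/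
theorem killO_M22 {T : Type*} [Group T] [Finite T] [IsSimpleGroup T] (hn : ¬ IsMulCommutative T)
    (h : Spor.IsoM22 T) : KillO T := by
  obtain ⟨e⟩ := h
  have hc : Nat.card Spor.M22 = 443520 := Cfsg.Agent.SporadicA.MathieuRecog.card_M22
  have : IsSimpleGroup Spor.M22 := (MulEquiv.isSimpleGroup_congr e).1 inferInstance
  have : Finite Spor.M22 := Finite.of_equiv _ e.toEquiv
  obtain ⟨a, b, hab⟩ := hna_of hn
  exact KillO.congr e.symm (killO_cube ⟨e a, e b, fun h => hab (e.injective (by rw [map_mul, map_mul, h]))⟩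
    cube_M22' (k := 3) out_M22 (by rw [hc]; norm_num))

end Cfsg.Agent.H546.IFO.Mat
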